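import Groth.Agent.PairModels.Basic

/-!
# Refining a morphism of finitely presented models
-/

set_option autoImplicit false
set_option linter.style.haveILetI false

universe u

open CategoryTheory Limits

namespace Groth.Agent.PairModels

noncomputable section

open Groth.Agent.PopescuLib

variable {A B C : Type u} [CommRing A] [CommRing B] [CommRing C] [Algebra A B] [Algebra A C]

/-- An algebra map between models lying over `f`. -/
def Over' (f : B →ₐ[A] C) (X : FPModel A B) (Y : FPModel A C) : Type u :=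
  {g : X.Alg →ₐ[A] Y.Alg // ∀ x, Y.toB (g x) = f (X.toB x)}

variable {f : B →ₐ[A] C}

theorem finite_of_integral {S : Type u} [CommRing S] [Algebra A S] {ι : Type*} [Finite ι] (v : ι → S)
    (hv : Algebra.adjoin A (Set.range v) = ⊤) (hint : ∀ k, IsIntegral A (v k)) : Module.Finite A S := by
  refine ⟨?_⟩
  rw [← Algebra.top_toSubmodule, ← hv]
  exact fg_adjoin_of_finite (Set.finite_range v) (by rintro _ ⟨k, rfl⟩; exact hint k)

theorem adjoin_image_gens {X : FPModel A B} {S : Type u} [CommRing S] [Algebra A S] (q : X.Alg →ₐ[A] S)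
    (hq : Function.Surjective q) : Algebra.adjoin A (Set.range fun k => q (gens X k)) = ⊤ := by
  rw [show (Set.range fun k => q (gens X k)) = q '' Set.range (gens X) from Set.range_comp _ _,
    ← AlgHom.map_adjoin, adjoin_gens, Algebra.map_top, AlgHom.range_eq_top]
  exact hq

/-- If `f` is surjective, the source may be enlarged so that the map becomes surjective. -/
theorem exists_surj {X : FPModel A B} {Y : FPModel A C} (g : Over' f X Y) (hf : Function.Surjective f) :
    ∃ (X' : FPModel A B) (i : X ⟶ X') (g' : Over' f X' Y),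
      (∀ x, g'.1 (homAlg i x) = g.1 x) ∧ Function.Surjective g'.1 := by
  choose b hb using fun k : ULift.{u} (Fin Y.n) => hf (Y.toB (gens Y k.down))
  obtain ⟨X', i, t, ht, hlift, hgen⟩ := exists_adjoin X b
  obtain ⟨β, hβi, hβt⟩ := hlift Y.Alg g.1 (fun k => gens Y k.down)
  have hover : Y.toB.comp β = f.comp X'.toB := by
    refine AlgHom.ext_of_adjoin_eq_top hgen ?_
    rintro _ (⟨x, rfl⟩ | ⟨k, rfl⟩)
    · show Y.toB (β _) = f (X'.toB _)
      rw [hβi, toB_hom, g.2]
    · show Y.toB (β _) = f (X'.toB _)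
      rw [hβt, ht, hb]
  refine ⟨X', i, ⟨β, AlgHom.congr_fun hover⟩, hβi, ?_⟩
  rw [← AlgHom.range_eq_top, eq_top_iff, ← adjoin_gens Y, Algebra.adjoin_le_iff]
  rintro _ ⟨k, rfl⟩
  exact ⟨t ⟨k⟩, hβt ⟨k⟩⟩

/-- A surjective map with nilpotent kernel over `f` can be achieved by a quotient of the source. -/
theorem exists_nilpotent {X : FPModel A B} {Y : FPModel A C} (g : Over' f X Y)
    (hg : Function.Surjective g.1) {N : ℕ} (hN : RingHom.ker f ^ N = ⊥) :
    ∃ (X' : FPModel A B) (q : X ⟶ X') (g' : Over' f X' Y), Function.Surjective (homAlg q) ∧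
      (∀ x, g'.1 (homAlg q x) = g.1 x) ∧ Function.Surjective g'.1 ∧ RingHom.ker g'.1 ^ (N + 1) = ⊥ := by
  let J := RingHom.ker g.1
  have hJ : Ideal.map X.toB J ≤ RingHom.ker f := Ideal.map_le_iff_le_comap.2 fun x hx => by
    rw [Ideal.mem_comap, RingHom.mem_ker, ← g.2, show g.1 x = 0 from hx, map_zero]
  have hle : J ^ (N + 1) ≤ RingHom.ker X.toB := fun x hx => by
    have h1 : X.toB x ∈ Ideal.map X.toB (J ^ (N + 1)) := Ideal.mem_map_of_mem _ hx
    rw [Ideal.map_pow] at h1
    have h2 := (Ideal.pow_le_pow_right (Nat.le_succ N)) (Ideal.pow_right_mono hJ _ h1)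
    rw [hN] at h2
    exact h2
  obtain ⟨X', q, hq, hker⟩ := exists_quot X _
    ((Algebra.FinitePresentation.ker_fG_of_surjective g.1 hg).pow) hle
  obtain ⟨β, hβ⟩ := exists_desc q hq hker g.1 fun x hx => Ideal.pow_le_self (Nat.succ_ne_zero N) hx
  refine ⟨X', q, ⟨β, fun x => ?_⟩, hq, hβ, fun y => ?_, ?_⟩
  · obtain ⟨x, rfl⟩ := hq x
    rw [hβ, toB_hom, g.2]
  · obtain ⟨x, rfl⟩ := hg y
    exact ⟨_, hβ x⟩
  · have hk : RingHom.ker β = Ideal.map (homAlg q) J := by
      refine le_antisymm (fun y hy => ?_) (Ideal.map_le_iff_le_comap.2 fun x hx => ?_)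
      · obtain ⟨x, rfl⟩ := hq y
        rw [RingHom.mem_ker, hβ] at hy
        exact Ideal.mem_map_of_mem _ hy
      · rw [Ideal.mem_comap, RingHom.mem_ker, hβ]; exact hx
    show RingHom.ker β ^ (N + 1) = ⊥
    rw [hk, ← Ideal.map_pow, eq_bot_iff, Ideal.map_le_iff_le_comap]
    exact fun x hx => (hker x).2 hx

/-- Quotient of both ends of an arrow. -/
theorem exists_quot_pair {X : FPModel A B} {Y : FPModel A C} (g : Over' f X Y) (K : Ideal X.Alg)
    (hK : K.FG) (hKle : K ≤ RingHom.ker X.toB) (L : Ideal Y.Alg) (hL : L.FG)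
    (hLle : L ≤ RingHom.ker Y.toB) :
    ∃ (X' : FPModel A B) (Y' : FPModel A C) (q : X ⟶ X') (r : Y ⟶ Y') (g' : Over' f X' Y'),
      Function.Surjective (homAlg q) ∧ Function.Surjective (homAlg r) ∧
      (∀ x ∈ K, homAlg q x = 0) ∧ (∀ y ∈ L, homAlg r y = 0) ∧
      ∀ x, g'.1 (homAlg q x) = homAlg r (g.1 x) := by
  have hle' : Ideal.map g.1 K ⊔ L ≤ RingHom.ker Y.toB :=
    sup_le (Ideal.map_le_iff_le_comap.2 fun x hx => by
      rw [Ideal.mem_comap, RingHom.mem_ker, g.2, show X.toB x = 0 from hKle hx, map_zero]) hLle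
  obtain ⟨X', q, hq, hqk⟩ := exists_quot X K hK hKle
  obtain ⟨Y', r, hr, hrk⟩ := exists_quot Y _ (Submodule.FG.sup (hK.map g.1.toRingHom) hL) hle'
  obtain ⟨β, hβ⟩ := exists_desc q hq hqk ((homAlg r).comp g.1)
    fun x hx => (hrk _).2 (Ideal.mem_sup_left (Ideal.mem_map_of_mem _ hx))
  refine ⟨X', Y', q, r, ⟨β, fun x => ?_⟩, hq, hr, fun x hx => (hqk x).2 hx,
    fun y hy => (hrk y).2 (Ideal.mem_sup_right hy), hβ⟩
  obtain ⟨x, rfl⟩ := hq x
  rw [hβ]
  show Y'.toB (homAlg r (g.1 x)) = _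
  rw [toB_hom, toB_hom, g.2]

end

end Groth.Agent.PairModels
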