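import Groth.Agent.PairModels.Arrow

/-!
# Integral and nilpotent refinements of arrows of models
-/

set_option autoImplicit false
set_option linter.style.haveILetI false

universe u

open CategoryTheory Limits

namespace Groth.Agent.PairModels

noncomputable section

open Groth.Agent.PopescuLib

variable {A B C : Type u} [CommRing A] [CommRing B] [CommRing C] [Algebra A B] [Algebra A C]
variable {f : B →ₐ[A] C}

/-- A surjective map with locally nilpotent kernel over `f` can be achieved by a quotient of the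
source. -/
theorem exists_locNilpotent {X : FPModel A B} {Y : FPModel A C} (g : Over' f X Y)
    (hg : Function.Surjective g.1) (hn : ∀ x ∈ RingHom.ker f, IsNilpotent x) :
    ∃ (X' : FPModel A B) (q : X ⟶ X') (g' : Over' f X' Y), Function.Surjective (homAlg q) ∧
      (∀ x, g'.1 (homAlg q x) = g.1 x) ∧ Function.Surjective g'.1 ∧
      ∀ x ∈ RingHom.ker g'.1, IsNilpotent x := by
  classical
  obtain ⟨s, hs⟩ := Algebra.FinitePresentation.ker_fG_of_surjective g.1 hg
  have hmem : ∀ x : s, g.1 x.1 = 0 := fun x => by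
    have : x.1 ∈ RingHom.ker g.1 := hs.le (Ideal.subset_span x.2)
    exact this
  choose n hn' using fun x : s => hn (X.toB x.1) (by rw [RingHom.mem_ker, ← g.2, hmem, map_zero])
  let K : Ideal X.Alg := Ideal.span (Set.range fun x : s => x.1 ^ (n x + 1))
  have hKle : K ≤ RingHom.ker X.toB := Ideal.span_le.2 (by
    rintro _ ⟨x, rfl⟩
    rw [SetLike.mem_coe, RingHom.mem_ker, map_pow, pow_succ, hn', zero_mul])
  obtain ⟨X', q, hq, hker⟩ := exists_quot X K (Submodule.fg_span (Set.finite_range _)) hKle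
  obtain ⟨β, hβ⟩ := exists_desc q hq hker g.1 fun x hx => by
    refine (Ideal.span_le (I := RingHom.ker g.1)).2 ?_ hx
    rintro _ ⟨x, rfl⟩
    rw [SetLike.mem_coe, RingHom.mem_ker, map_pow, hmem, zero_pow (Nat.succ_ne_zero _)]
  refine ⟨X', q, ⟨β, fun x => ?_⟩, hq, hβ, fun y => ?_, fun x hx => ?_⟩
  · obtain ⟨x, rfl⟩ := hq x
    rw [hβ, toB_hom, g.2]
  · obtain ⟨x, rfl⟩ := hg y
    exact ⟨_, hβ x⟩
  · obtain ⟨x, rfl⟩ := hq x
    rw [RingHom.mem_ker, hβ] at hx
    have hx' : x ∈ Ideal.span (s : Set X.Alg) := hs.ge hx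
    have hle : Ideal.map (homAlg q) (Ideal.span (s : Set X.Alg)) ≤ nilradical X'.Alg := by
      rw [Ideal.map_span, Ideal.span_le]
      rintro _ ⟨y, hy, rfl⟩
      refine mem_nilradical.2 ⟨n ⟨y, hy⟩ + 1, ?_⟩
      rw [← map_pow]
      exact (hker _).2 (Ideal.subset_span ⟨⟨y, hy⟩, rfl⟩)
    exact mem_nilradical.1 (hle (Ideal.mem_map_of_mem _ hx'))

/-- If `f` is integral, both ends may be refined so that the arrow becomes integral. -/
theorem exists_integral {X : FPModel A B} {Y : FPModel A C} (g : Over' f X Y)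
    (hf : f.toRingHom.IsIntegral) :
    ∃ (X' : FPModel A B) (Y' : FPModel A C) (i : X ⟶ X') (r : Y ⟶ Y') (g' : Over' f X' Y'),
      (∀ x, g'.1 (homAlg i x) = homAlg r (g.1 x)) ∧ g'.1.toRingHom.IsIntegral := by
  classical
  choose p hp hp' using fun k => hf (Y.toB (gens Y k))
  let co : Finset B := Finset.univ.biUnion fun k => (p k).coeffs
  obtain ⟨X', i, t, ht, hlift, hgen⟩ := exists_adjoin (σ := ↥co) X (fun b => b.1)
  obtain ⟨Y₁, j, t', ht', -, hgen'⟩ := exists_adjoin (σ := ↥co) Y (fun b => f b.1)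
  obtain ⟨γ, hγi, hγt⟩ := hlift Y₁.Alg ((homAlg j).comp g.1) t'
  have hc : Y₁.toB.comp γ = f.comp X'.toB := by
    refine AlgHom.ext_of_adjoin_eq_top hgen ?_
    rintro _ (⟨x, rfl⟩ | ⟨b, rfl⟩)
    · show Y₁.toB (γ _) = f (X'.toB _)
      rw [hγi, toB_hom]
      exact (toB_hom j _).trans (g.2 x)
    · show Y₁.toB (γ _) = f (X'.toB _)
      rw [hγt, ht, ht']
  have hl : ∀ k, ∃ P : Polynomial X'.Alg, P.map X'.toB.toRingHom = p k ∧ P.Monic := fun k => by
    have hmem : p k ∈ Polynomial.lifts X'.toB.toRingHom := by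
      refine (Polynomial.lifts_iff_coeff_lifts _).2 fun m => ?_
      by_cases h : (p k).coeff m = 0
      · exact ⟨0, by rw [h, map_zero]⟩
      · have hb : (p k).coeff m ∈ co := Finset.mem_biUnion.2
          ⟨k, Finset.mem_univ k, Polynomial.coeff_mem_coeffs h⟩
        exact ⟨t ⟨_, hb⟩, ht ⟨_, hb⟩⟩
    obtain ⟨P, h1, -, h2⟩ := Polynomial.lifts_and_natDegree_eq_and_monic hmem (hp k)
    exact ⟨P, h1, h2⟩
  choose P hP hPm using hl
  let K : Ideal Y₁.Alg :=
    Ideal.span (Set.range fun k => (P k).eval₂ γ.toRingHom (homAlg j (gens Y k)))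
  have hKle : K ≤ RingHom.ker Y₁.toB := Ideal.span_le.2 (by
    rintro _ ⟨k, rfl⟩
    rw [SetLike.mem_coe, RingHom.mem_ker]
    show Y₁.toB.toRingHom ((P k).eval₂ γ.toRingHom _) = 0
    rw [Polynomial.hom_eval₂,
      show Y₁.toB.toRingHom.comp γ.toRingHom = f.toRingHom.comp X'.toB.toRingHom from
        RingHom.ext fun x => AlgHom.congr_fun hc x, ← Polynomial.eval₂_map, hP]
    show (p k).eval₂ f.toRingHom (Y₁.toB (homAlg j (gens Y k))) = 0
    rw [toB_hom]
    exact hp' k)
  obtain ⟨Y', r, hr, hker⟩ := exists_quot Y₁ K (Submodule.fg_span (Set.finite_range _)) hKle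
  let g' : Over' f X' Y' := ⟨(homAlg r).comp γ, fun x => (toB_hom r _).trans (AlgHom.congr_fun hc x)⟩
  refine ⟨X', Y', i, j ≫ r, g', fun x => congrArg (homAlg r) (hγi x), fun y => ?_⟩
  obtain ⟨y, rfl⟩ := hr y
  have hy : y ∈ Algebra.adjoin A (Set.range (homAlg j) ∪ Set.range t') := hgen' ▸ trivial
  have hj : ∀ z, g'.1.toRingHom.IsIntegralElem (homAlg r (homAlg j z)) := fun z => by
    have hz : z ∈ Algebra.adjoin A (Set.range (gens Y)) := (adjoin_gens Y).symm ▸ trivial
    induction hz using Algebra.adjoin_induction with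
    | mem z hz =>
      obtain ⟨k, rfl⟩ := hz
      refine ⟨P k, hPm k, ?_⟩
      show (P k).eval₂ ((homAlg r).toRingHom.comp γ.toRingHom) ((homAlg r).toRingHom _) = 0
      rw [← Polynomial.hom_eval₂]
      exact (hker _).2 (Ideal.subset_span ⟨k, rfl⟩)
    | algebraMap a =>
      rw [AlgHom.commutes, AlgHom.commutes, ← g'.1.commutes a]
      exact g'.1.toRingHom.isIntegralElem_map
    | add a b _ _ ha hb => rw [map_add, map_add]; exact RingHom.IsIntegralElem.add _ ha hb
    | mul a b _ _ ha hb => rw [map_mul, map_mul]; exact RingHom.IsIntegralElem.mul _ ha hb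
  induction hy using Algebra.adjoin_induction with
  | mem y hy =>
    rcases hy with ⟨z, rfl⟩ | ⟨b, rfl⟩
    · exact hj z
    · rw [← hγt b]
      exact g'.1.toRingHom.isIntegralElem_map (x := t b)
  | algebraMap a =>
    rw [AlgHom.commutes, ← g'.1.commutes a]
    exact g'.1.toRingHom.isIntegralElem_map
  | add a b _ _ ha hb => rw [map_add]; exact RingHom.IsIntegralElem.add _ ha hb
  | mul a b _ _ ha hb => rw [map_mul]; exact RingHom.IsIntegralElem.mul _ ha hb

end

end Groth.Agent.PairModels
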