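import Groth.Agent.PopescuLib.FPColim

/-!
# Operations on finitely presented models of an algebra
-/

set_option autoImplicit false
set_option linter.style.haveILetI false

universe u

open CategoryTheory Limits
open scoped TensorProduct

namespace Groth.Agent.PairModels

noncomputable section

open Groth.Agent.PopescuLib

variable {A B : Type u} [CommRing A] [CommRing B] [Algebra A B]

theorem exists_model_equiv (P : Type u) [CommRing P] [Algebra A P] [Algebra.FinitePresentation A P]
    (φ : P →ₐ[A] B) : ∃ (X : FPModel A B) (e : P ≃ₐ[A] X.Alg), ∀ p, X.toB (e p) = φ p := by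
  obtain ⟨n, π, hπ, hker⟩ := Algebra.FinitePresentation.out (R := A) (A := P)
  let e := Ideal.quotientKerAlgEquivOfSurjective hπ
  exact ⟨⟨n, RingHom.ker π, hker, φ.comp e.toAlgHom⟩, e.symm, fun p => congrArg φ (e.apply_symm_apply p)⟩

/-- The algebra map of a morphism of models. -/
abbrev homAlg {X Y : FPModel A B} (f : X ⟶ Y) : X.Alg →ₐ[A] Y.Alg := f.1

theorem toB_hom {X Y : FPModel A B} (f : X ⟶ Y) (x : X.Alg) : Y.toB (homAlg f x) = X.toB x :=
  AlgHom.congr_fun f.2 x

theorem id_apply (X : FPModel A B) (x : X.Alg) : homAlg (𝟙 X) x = x := rfl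

theorem comp_apply {X Y Z : FPModel A B} (f : X ⟶ Y) (g : Y ⟶ Z) (x : X.Alg) :
    homAlg (f ≫ g) x = homAlg g (homAlg f x) := rfl

/-- A morphism of models from an algebra map. -/
def mkHom {X Y : FPModel A B} (α : X.Alg →ₐ[A] Y.Alg) (h : ∀ x, Y.toB (α x) = X.toB x) : X ⟶ Y :=
  ⟨α, AlgHom.ext h⟩

/-- The tautological generators of a model. -/
def gens (X : FPModel A B) (k : Fin X.n) : X.Alg := Ideal.Quotient.mkₐ A X.I (MvPolynomial.X k)

theorem adjoin_gens (X : FPModel A B) : Algebra.adjoin A (Set.range (gens X)) = ⊤ := by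
  have h : Set.range (gens X) = Ideal.Quotient.mkₐ A X.I '' Set.range MvPolynomial.X := by
    rw [← Set.range_comp]; rfl
  rw [h, ← AlgHom.map_adjoin, MvPolynomial.adjoin_range_X, Algebra.map_top, AlgHom.range_eq_top]
  exact Ideal.Quotient.mkₐ_surjective A X.I

/-- Quotient of a model by a finitely generated ideal dying in `B`. -/
theorem exists_quot (X : FPModel A B) (K : Ideal X.Alg) (hK : K.FG) (hle : K ≤ RingHom.ker X.toB) :
    ∃ (X' : FPModel A B) (q : X ⟶ X'), Function.Surjective (homAlg q) ∧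
      ∀ x, homAlg q x = 0 ↔ x ∈ K := by
  haveI := Algebra.FinitePresentation.quotient (R := A) hK
  obtain ⟨X', e, he⟩ := exists_model_equiv (X.Alg ⧸ K) (Ideal.Quotient.liftₐ K X.toB fun a ha => hle ha)
  refine ⟨X', mkHom (e.toAlgHom.comp (Ideal.Quotient.mkₐ A K)) (fun x => he _), ?_, fun x => ?_⟩
  · exact e.surjective.comp (Ideal.Quotient.mkₐ_surjective A K)
  · show e (Ideal.Quotient.mk K x) = 0 ↔ _
    rw [map_eq_zero_iff e e.injective, Ideal.Quotient.eq_zero_iff_mem]

/-- Maps out of a quotient model. -/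
theorem exists_desc {X X' : FPModel A B} {K : Ideal X.Alg} (q : X ⟶ X') (hq : Function.Surjective (homAlg q))
    (hker : ∀ x, homAlg q x = 0 ↔ x ∈ K) {P : Type u} [CommRing P] [Algebra A P] (α : X.Alg →ₐ[A] P)
    (hα : ∀ x ∈ K, α x = 0) : ∃ β : X'.Alg →ₐ[A] P, ∀ x, β (homAlg q x) = α x := by
  let e := Ideal.quotientKerAlgEquivOfSurjective (f := homAlg q) hq
  refine ⟨(Ideal.Quotient.liftₐ (RingHom.ker (homAlg q)) α fun x hx => hα x ((hker x).1 hx)).comp e.symm.toAlgHom,
    fun x => ?_⟩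
  have h : e.symm (homAlg q x) = Ideal.Quotient.mk _ x :=
    e.injective ((e.apply_symm_apply _).trans rfl)
  show Ideal.Quotient.liftₐ (RingHom.ker (homAlg q)) α (fun x hx => hα x ((hker x).1 hx)) (e.symm (homAlg q x)) = α x
  rw [h]
  rfl

/-- Adjoining variables to a model. -/
theorem exists_adjoin (X : FPModel A B) {σ : Type u} [Finite σ] (v : σ → B) :
    ∃ (X' : FPModel A B) (i : X ⟶ X') (t : σ → X'.Alg), (∀ s, X'.toB (t s) = v s) ∧
      (∀ (P : Type u) [CommRing P] [Algebra A P] (α : X.Alg →ₐ[A] P) (w : σ → P),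
        ∃ β : X'.Alg →ₐ[A] P, (∀ x, β (homAlg i x) = α x) ∧ ∀ s, β (t s) = w s) ∧
      Algebra.adjoin A (Set.range (homAlg i) ∪ Set.range t) = ⊤ := by
  haveI := Algebra.FinitePresentation.trans A X.Alg (MvPolynomial σ X.Alg)
  obtain ⟨X', e, he⟩ := exists_model_equiv (MvPolynomial σ X.Alg) (MvPolynomial.aevalTower X.toB v)
  refine ⟨X', mkHom (e.toAlgHom.comp (IsScalarTower.toAlgHom A X.Alg _)) (fun x => (he _).trans ?_),
    fun s => e (MvPolynomial.X s), fun s => (he _).trans (MvPolynomial.aevalTower_X _ _ _),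
    fun P _ _ α w => ⟨(MvPolynomial.aevalTower α w).comp e.symm.toAlgHom, fun x => ?_, fun s => ?_⟩, ?_⟩
  · exact MvPolynomial.aevalTower_C _ _ x
  · show MvPolynomial.aevalTower α w (e.symm (e (algebraMap X.Alg (MvPolynomial σ X.Alg) x))) = α x
    rw [e.symm_apply_apply]
    exact MvPolynomial.aevalTower_C _ _ x
  · show MvPolynomial.aevalTower α w (e.symm (e _)) = w s
    rw [e.symm_apply_apply, MvPolynomial.aevalTower_X]
  · rw [Algebra.eq_top_iff]
    intro y
    obtain ⟨p, rfl⟩ := e.surjective y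
    induction p using MvPolynomial.induction_on with
    | C a => exact Algebra.subset_adjoin (Or.inl ⟨a, rfl⟩)
    | add p q hp hq => rw [map_add]; exact add_mem hp hq
    | mul_X p s hp => rw [map_mul]; exact mul_mem hp (Algebra.subset_adjoin (Or.inr ⟨s, rfl⟩))

/-- Joining two models. -/
theorem exists_coprod (X Y : FPModel A B) :
    ∃ (Z : FPModel A B) (a : X ⟶ Z) (b : Y ⟶ Z),
      Algebra.adjoin A (Set.range (homAlg a) ∪ Set.range (homAlg b)) = ⊤ ∧
      ∀ (P : Type u) [CommRing P] [Algebra A P]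
      (α : X.Alg →ₐ[A] P) (β : Y.Alg →ₐ[A] P), ∃ γ : Z.Alg →ₐ[A] P,
        (∀ x, γ (homAlg a x) = α x) ∧ ∀ y, γ (homAlg b y) = β y := by
  haveI := Algebra.FinitePresentation.trans A X.Alg (X.Alg ⊗[A] Y.Alg)
  obtain ⟨Z, e, he⟩ := exists_model_equiv (X.Alg ⊗[A] Y.Alg)
    (Algebra.TensorProduct.lift X.toB Y.toB fun _ _ => .all _ _)
  refine ⟨Z, mkHom (e.toAlgHom.comp Algebra.TensorProduct.includeLeft) (fun x => (he _).trans (by simp)),
    mkHom (e.toAlgHom.comp Algebra.TensorProduct.includeRight) (fun y => (he _).trans (by simp)),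
    ?_, fun P _ _ α β => ⟨(Algebra.TensorProduct.lift α β fun _ _ => .all _ _).comp e.symm.toAlgHom,
      fun x => ?_, fun y => ?_⟩⟩
  · rw [Algebra.eq_top_iff]
    intro z
    obtain ⟨p, rfl⟩ := e.surjective z
    induction p using TensorProduct.induction_on with
    | zero => rw [map_zero]; exact zero_mem _
    | add p q hp hq => rw [map_add]; exact add_mem hp hq
    | tmul x y =>
      rw [show x ⊗ₜ[A] y = (x ⊗ₜ[A] 1) * (1 ⊗ₜ[A] y) by simp, map_mul]
      exact mul_mem (Algebra.subset_adjoin (Or.inl ⟨x, rfl⟩)) (Algebra.subset_adjoin (Or.inr ⟨y, rfl⟩))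
  · show Algebra.TensorProduct.lift α β (fun _ _ => .all _ _) (e.symm (e _)) = α x
    rw [e.symm_apply_apply]; simp
  · show Algebra.TensorProduct.lift α β (fun _ _ => .all _ _) (e.symm (e _)) = β y
    rw [e.symm_apply_apply]; simp

/-- The ideal equalising two parallel morphisms. -/
theorem exists_eq_ideal {X Y : FPModel A B} (f g : X ⟶ Y) :
    ∃ K : Ideal Y.Alg, K.FG ∧ K ≤ RingHom.ker Y.toB ∧ (∀ x, homAlg f x - homAlg g x ∈ K) ∧
      ∀ (P : Type u) [CommRing P] [Algebra A P] (α : Y.Alg →ₐ[A] P),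
        (∀ x, α (homAlg f x) = α (homAlg g x)) → ∀ z ∈ K, α z = 0 := by
  classical
  refine ⟨Ideal.span (Set.range fun k => homAlg f (gens X k) - homAlg g (gens X k)),
    Submodule.fg_span (Set.finite_range _), Ideal.span_le.2 ?_, fun x => ?_, fun P _ _ α hα z hz => ?_⟩
  · rintro _ ⟨k, rfl⟩
    rw [SetLike.mem_coe, RingHom.mem_ker, map_sub, toB_hom, toB_hom, sub_self]
  · let K : Ideal Y.Alg := Ideal.span (Set.range fun k => homAlg f (gens X k) - homAlg g (gens X k))
    have : (Ideal.Quotient.mkₐ A K).comp (homAlg f) = (Ideal.Quotient.mkₐ A K).comp (homAlg g) :=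
      AlgHom.ext_of_adjoin_eq_top (adjoin_gens X) (by
        rintro _ ⟨k, rfl⟩
        exact Ideal.Quotient.eq.2 (Ideal.subset_span ⟨k, rfl⟩))
    exact Ideal.Quotient.eq.1 (AlgHom.congr_fun this x)
  · refine (Ideal.span_le (I := RingHom.ker α)).2 ?_ hz
    rintro _ ⟨k, rfl⟩
    rw [SetLike.mem_coe, RingHom.mem_ker, map_sub, hα, sub_self]

/-- A model containing a prescribed element. -/
theorem exists_model_mem (b : B) : ∃ (X : FPModel A B) (x : X.Alg), X.toB x = b := by
  obtain ⟨X, e, he⟩ := exists_model_equiv (Polynomial A) (Polynomial.aeval b)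
  exact ⟨X, e Polynomial.X, (he _).trans (Polynomial.aeval_X b)⟩

/-- The initial model. -/
theorem exists_model_init (A B : Type u) [CommRing A] [CommRing B] [Algebra A B] :
    ∃ X : FPModel A B, ∀ (P : Type u) [CommRing P] [Algebra A P], Nonempty (X.Alg →ₐ[A] P) := by
  obtain ⟨X, e, -⟩ := exists_model_equiv A (Algebra.ofId A B)
  exact ⟨X, fun P _ _ => ⟨(Algebra.ofId A P).comp e.symm.toAlgHom⟩⟩

omit [CommRing A] [CommRing B] [Algebra A B] in
/-- Elementwise criterion for filtered colimits of algebras. -/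
theorem nonempty_isColimit {R : CommRingCat.{u}} {J : Type u} [SmallCategory J] [IsFiltered J]
    {D : J ⥤ CategoryTheory.Under R} (c : Cocone D)
    (h1 : ∀ z : c.pt.right, ∃ (j : J) (x : (D.obj j).right), (c.ι.app j).right x = z)
    (h2 : ∀ (j : J) (x y : (D.obj j).right), (c.ι.app j).right x = (c.ι.app j).right y →
      ∃ (k : J) (a : j ⟶ k), (D.map a).right x = (D.map a).right y) : Nonempty (IsColimit c) :=
  haveI : IsConnected J := IsFiltered.isConnected _
  haveI : ReflectsColimit (D ⋙ Under.forget _) (forget CommRingCat.{u}) :=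
    reflectsColimit_of_reflectsIsomorphisms _ _
  ⟨isColimitOfReflects (Under.forget _) (isColimitOfReflects (forget CommRingCat.{u})
    (Types.FilteredColimit.isColimitOf' _ _
      (fun z => by
        obtain ⟨j, x, hx⟩ := h1 z
        exact ⟨j, x, hx.symm⟩)
      fun j x y h => h2 j x y h))⟩

end

end Groth.Agent.PairModels
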