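import Groth.Agent.PairModels.Arrow2

/-!
# Filtered systems of models of a diagram `B → D ← D'`
-/

set_option autoImplicit false
set_option linter.style.haveILetI false
set_option linter.unusedVariables false

universe u

open CategoryTheory Limits

namespace Groth.Agent.PairModels

noncomputable section

open Groth.Agent.PopescuLib

variable {R B D D' : Type u} [CommRing R] [CommRing B] [CommRing D] [CommRing D'] [Algebra R B]
  [Algebra R D] [Algebra R D']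

/-- Models of a diagram `B → D ← D'`. -/
structure Triple (f : B →ₐ[R] D) (i : D' →ₐ[R] D) : Type u where
  X : FPModel R B
  Y : FPModel R D
  Z : FPModel R D'
  g : Over' f X Y
  h : Over' i Z Y

variable (f : B →ₐ[R] D) (i : D' →ₐ[R] D)

/-- The conditions on a triple. -/
structure TGood (P : Triple f i) : Prop where
  surjh : Function.Surjective P.h.1
  nilh : ∀ x ∈ RingHom.ker P.h.1, IsNilpotent x
  surjg : Function.Surjective f → Function.Surjective P.g.1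
  nilg : Function.Surjective f → (∀ x ∈ RingHom.ker f, IsNilpotent x) →
    ∀ x ∈ RingHom.ker P.g.1, IsNilpotent x
  intg : f.toRingHom.IsIntegral → P.g.1.toRingHom.IsIntegral

/-- Morphisms of triples. -/
@[ext] structure THom (P Q : Triple f i) : Type u where
  l : P.X ⟶ Q.X
  m : P.Y ⟶ Q.Y
  r : P.Z ⟶ Q.Z
  commg : ∀ x, Q.g.1 (homAlg l x) = homAlg m (P.g.1 x)
  commh : ∀ x, Q.h.1 (homAlg r x) = homAlg m (P.h.1 x)

variable {f i}

/-- Composition. -/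
def THom.comp {P Q R' : Triple f i} (u : THom f i P Q) (v : THom f i Q R') : THom f i P R' where
  l := u.l ≫ v.l
  m := u.m ≫ v.m
  r := u.r ≫ v.r
  commg x := by rw [PairModels.comp_apply, PairModels.comp_apply, v.commg, u.commg]
  commh x := by rw [PairModels.comp_apply, PairModels.comp_apply, v.commh, u.commh]

/-- Identity. -/
def THom.id (P : Triple f i) : THom f i P P where
  l := 𝟙 _
  m := 𝟙 _
  r := 𝟙 _
  commg _ := rfl
  commh _ := rfl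

theorem isIntegral_of_comp {S₀ S₁ T : Type u} [CommRing S₀] [CommRing S₁] [CommRing T] [Algebra R S₀]
    [Algebra R S₁] [Algebra R T] {φ : S₀ →ₐ[R] T} (hφ : φ.toRingHom.IsIntegral) (q : S₀ →ₐ[R] S₁)
    (ψ : S₁ →ₐ[R] T) (h : ∀ x, ψ (q x) = φ x) : ψ.toRingHom.IsIntegral := by
  refine RingHom.IsIntegral.tower_top q.toRingHom ψ.toRingHom ?_
  rw [show ψ.toRingHom.comp q.toRingHom = φ.toRingHom from RingHom.ext h]
  exact hφ

theorem exists_tgood (hi : Function.Surjective i) (hnil : ∀ x ∈ RingHom.ker i, IsNilpotent x)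
    (P : Triple f i) : ∃ (Q : Triple f i), TGood f i Q ∧ Nonempty (THom f i P Q) := by
  -- integrality
  obtain ⟨P₁, ⟨u₁⟩, hint⟩ : ∃ P₁ : Triple f i, Nonempty (THom f i P P₁) ∧
      (f.toRingHom.IsIntegral → P₁.g.1.toRingHom.IsIntegral) := by
    by_cases hf : f.toRingHom.IsIntegral
    · obtain ⟨X', Y', a, b, g', h1, h2⟩ := exists_integral P.g hf
      exact ⟨⟨X', Y', P.Z, g', ⟨(homAlg b).comp P.h.1, fun x => (toB_hom b _).trans (P.h.2 x)⟩⟩,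
        ⟨⟨a, b, 𝟙 _, h1, fun _ => rfl⟩⟩, fun _ => h2⟩
    · exact ⟨P, ⟨THom.id P⟩, fun h => absurd h hf⟩
  -- surjectivity of `h`
  obtain ⟨Z₂, c, h₂, hc, hh₂⟩ := exists_surj P₁.h hi
  let u₂ : THom f i P₁ ⟨P₁.X, P₁.Y, Z₂, P₁.g, h₂⟩ := ⟨𝟙 _, 𝟙 _, c, fun _ => rfl, hc⟩
  obtain ⟨Z₃, d, h₃, hd, hd', hh₃, hh₃n⟩ := exists_locNilpotent h₂ hh₂ hnil
  let u₃ : THom f i _ ⟨P₁.X, P₁.Y, Z₃, P₁.g, h₃⟩ := u₂.comp ⟨𝟙 _, 𝟙 _, d, fun _ => rfl, hd'⟩
  -- surjectivity of `g`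
  by_cases hf : Function.Surjective f
  · obtain ⟨X₄, a, g₄, ha, hg₄⟩ := exists_surj P₁.g hf
    let u₄ : THom f i P ⟨X₄, P₁.Y, Z₃, g₄, h₃⟩ :=
      (u₁.comp u₃).comp ⟨a, 𝟙 _, 𝟙 _, ha, fun _ => rfl⟩
    by_cases hfn : ∀ x ∈ RingHom.ker f, IsNilpotent x
    · obtain ⟨X₅, b, g₅, hb, hb', hg₅, hg₅n⟩ := exists_locNilpotent g₄ hg₄ hfn
      exact ⟨⟨X₅, P₁.Y, Z₃, g₅, h₃⟩, ⟨hh₃, hh₃n, fun _ => hg₅, fun _ _ => hg₅n,
        fun hfi => RingHom.isIntegral_of_surjective _ hg₅⟩, ⟨u₄.comp ⟨b, 𝟙 _, 𝟙 _, hb', fun _ => rfl⟩⟩⟩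
    · exact ⟨⟨X₄, P₁.Y, Z₃, g₄, h₃⟩, ⟨hh₃, hh₃n, fun _ => hg₄, fun _ h => absurd h hfn,
        fun hfi => isIntegral_of_comp (hint hfi) (homAlg a) g₄.1 ha⟩, ⟨u₄⟩⟩
  · exact ⟨⟨P₁.X, P₁.Y, Z₃, P₁.g, h₃⟩, ⟨hh₃, hh₃n, fun h => absurd h hf, fun h => absurd h hf, hint⟩,
      ⟨u₁.comp u₃⟩⟩

/-- Quotient of a triple. -/
theorem exists_quot_triple (P : Triple f i) (K : Ideal P.X.Alg) (hK : K.FG) (hKle : K ≤ RingHom.ker P.X.toB)
    (L : Ideal P.Y.Alg) (hL : L.FG) (hLle : L ≤ RingHom.ker P.Y.toB) (M : Ideal P.Z.Alg) (hM : M.FG)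
    (hMle : M ≤ RingHom.ker P.Z.toB) :
    ∃ (Q : Triple f i) (u : THom f i P Q), (∀ x ∈ K, homAlg u.l x = 0) ∧
      (∀ y ∈ L, homAlg u.m y = 0) ∧ ∀ z ∈ M, homAlg u.r z = 0 := by
  have hle : Ideal.map P.g.1 K ⊔ L ⊔ Ideal.map P.h.1 M ≤ RingHom.ker P.Y.toB :=
    sup_le (sup_le (Ideal.map_le_iff_le_comap.2 fun x hx => by
        rw [Ideal.mem_comap, RingHom.mem_ker, P.g.2, show P.X.toB x = 0 from hKle hx, map_zero]) hLle)
      (Ideal.map_le_iff_le_comap.2 fun x hx => by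
        rw [Ideal.mem_comap, RingHom.mem_ker, P.h.2, show P.Z.toB x = 0 from hMle hx, map_zero])
  obtain ⟨X', a, ha, hak⟩ := exists_quot P.X K hK hKle
  obtain ⟨Y', b, hb, hbk⟩ := exists_quot P.Y _
    (Submodule.FG.sup (Submodule.FG.sup (hK.map P.g.1.toRingHom) hL) (hM.map P.h.1.toRingHom)) hle
  obtain ⟨Z', c, hc, hck⟩ := exists_quot P.Z M hM hMle
  obtain ⟨γ, hγ⟩ := exists_desc a ha hak ((homAlg b).comp P.g.1) fun x hx =>
    (hbk _).2 (Ideal.mem_sup_left (Ideal.mem_sup_left (Ideal.mem_map_of_mem _ hx)))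
  obtain ⟨δ, hδ⟩ := exists_desc c hc hck ((homAlg b).comp P.h.1) fun x hx =>
    (hbk _).2 (Ideal.mem_sup_right (Ideal.mem_map_of_mem _ hx))
  refine ⟨⟨X', Y', Z', ⟨γ, fun x => ?_⟩, ⟨δ, fun x => ?_⟩⟩, ⟨a, b, c, hγ, hδ⟩, fun x hx => (hak x).2 hx,
    fun y hy => (hbk y).2 (Ideal.mem_sup_left (Ideal.mem_sup_right hy)), fun z hz => (hck z).2 hz⟩
  · obtain ⟨x, rfl⟩ := ha x
    rw [hγ]
    show Y'.toB (homAlg b (P.g.1 x)) = _
    rw [toB_hom, toB_hom, P.g.2]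
  · obtain ⟨x, rfl⟩ := hc x
    rw [hδ]
    show Y'.toB (homAlg b (P.h.1 x)) = _
    rw [toB_hom, toB_hom, P.h.2]

/-- Join of two triples. -/
theorem exists_join (P Q : Triple f i) : ∃ T : Triple f i, Nonempty (THom f i P T) ∧ Nonempty (THom f i Q T) := by
  obtain ⟨X, a, a', hgX, hX⟩ := exists_coprod P.X Q.X
  obtain ⟨Y, b, b', -, -⟩ := exists_coprod P.Y Q.Y
  obtain ⟨Z, c, c', hgZ, hZ⟩ := exists_coprod P.Z Q.Z
  obtain ⟨γ, hγ, hγ'⟩ := hX Y.Alg ((homAlg b).comp P.g.1) ((homAlg b').comp Q.g.1)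
  obtain ⟨δ, hδ, hδ'⟩ := hZ Y.Alg ((homAlg b).comp P.h.1) ((homAlg b').comp Q.h.1)
  have hc₁ : Y.toB.comp γ = f.comp X.toB := by
    refine AlgHom.ext_of_adjoin_eq_top hgX ?_
    rintro _ (⟨x, rfl⟩ | ⟨x, rfl⟩)
    · show Y.toB (γ _) = f (X.toB _)
      rw [hγ, toB_hom]; exact (toB_hom b _).trans (P.g.2 x)
    · show Y.toB (γ _) = f (X.toB _)
      rw [hγ', toB_hom]; exact (toB_hom b' _).trans (Q.g.2 x)
  have hc₂ : Y.toB.comp δ = i.comp Z.toB := by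
    refine AlgHom.ext_of_adjoin_eq_top hgZ ?_
    rintro _ (⟨x, rfl⟩ | ⟨x, rfl⟩)
    · show Y.toB (δ _) = i (Z.toB _)
      rw [hδ, toB_hom]; exact (toB_hom b _).trans (P.h.2 x)
    · show Y.toB (δ _) = i (Z.toB _)
      rw [hδ', toB_hom]; exact (toB_hom b' _).trans (Q.h.2 x)
  exact ⟨⟨X, Y, Z, ⟨γ, AlgHom.congr_fun hc₁⟩, ⟨δ, AlgHom.congr_fun hc₂⟩⟩,
    ⟨⟨a, b, c, hγ, hδ⟩⟩, ⟨⟨a', b', c', hγ', hδ'⟩⟩⟩

/-- A triple of initial models. -/
theorem exists_triple_init (f : B →ₐ[R] D) (i : D' →ₐ[R] D) : Nonempty (Triple f i) := by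
  obtain ⟨X, e, he⟩ := exists_model_equiv (A := R) (B := B) R (Algebra.ofId R B)
  obtain ⟨Y, e', he'⟩ := exists_model_equiv (A := R) (B := D) R (Algebra.ofId R D)
  obtain ⟨Z, e'', he''⟩ := exists_model_equiv (A := R) (B := D') R (Algebra.ofId R D')
  refine ⟨⟨X, Y, Z, ⟨(Algebra.ofId R Y.Alg).comp e.symm.toAlgHom, fun x => ?_⟩,
    ⟨(Algebra.ofId R Y.Alg).comp e''.symm.toAlgHom, fun x => ?_⟩⟩⟩
  · obtain ⟨a, rfl⟩ := e.surjective x
    show Y.toB (Algebra.ofId R Y.Alg (e.symm (e a))) = f (X.toB (e a))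
    rw [e.symm_apply_apply, he, Algebra.ofId_apply, Algebra.ofId_apply, AlgHom.commutes, AlgHom.commutes]
  · obtain ⟨a, rfl⟩ := e''.surjective x
    show Y.toB (Algebra.ofId R Y.Alg (e''.symm (e'' a))) = i (Z.toB (e'' a))
    rw [e''.symm_apply_apply, he'', Algebra.ofId_apply, Algebra.ofId_apply, AlgHom.commutes, AlgHom.commutes]

/-- A triple with a prescribed element in the source. -/
theorem exists_triple_mem_left (b : B) : ∃ (P : Triple f i) (x : P.X.Alg), P.X.toB x = b := by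
  obtain ⟨X, e, he⟩ := exists_model_equiv (A := R) (B := B) (Polynomial R) (Polynomial.aeval b)
  obtain ⟨Y, e', he'⟩ := exists_model_equiv (A := R) (B := D) (Polynomial R) (Polynomial.aeval (f b))
  obtain ⟨Z, e'', he''⟩ := exists_model_equiv (A := R) (B := D') R (Algebra.ofId R D')
  refine ⟨⟨X, Y, Z, ⟨e'.toAlgHom.comp e.symm.toAlgHom, fun x => ?_⟩,
    ⟨(Algebra.ofId R Y.Alg).comp e''.symm.toAlgHom, fun x => ?_⟩⟩, e Polynomial.X,
    (he _).trans (Polynomial.aeval_X b)⟩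
  · obtain ⟨p, rfl⟩ := e.surjective x
    show Y.toB (e' (e.symm (e p))) = f (X.toB (e p))
    rw [e.symm_apply_apply, he, he', Polynomial.aeval_algHom_apply]
  · obtain ⟨a, rfl⟩ := e''.surjective x
    show Y.toB (Algebra.ofId R Y.Alg (e''.symm (e'' a))) = i (Z.toB (e'' a))
    rw [e''.symm_apply_apply, he'', Algebra.ofId_apply, Algebra.ofId_apply, AlgHom.commutes, AlgHom.commutes]

/-- A triple with a prescribed element in the middle. -/
theorem exists_triple_mem_mid (d : D) : ∃ (P : Triple f i) (x : P.Y.Alg), P.Y.toB x = d := by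
  obtain ⟨⟨X, Y, Z, g, h⟩⟩ := exists_triple_init f i
  obtain ⟨Y₀, y, hy⟩ := exists_model_mem (A := R) d
  obtain ⟨Y', b, b', -, -⟩ := exists_coprod Y Y₀
  exact ⟨⟨X, Y', Z, ⟨(homAlg b).comp g.1, fun x => (toB_hom b _).trans (g.2 x)⟩,
    ⟨(homAlg b).comp h.1, fun x => (toB_hom b _).trans (h.2 x)⟩⟩, homAlg b' y, (toB_hom b' y).trans hy⟩

/-- A triple with a prescribed element in the right end. -/
theorem exists_triple_mem_right (d : D') : ∃ (P : Triple f i) (x : P.Z.Alg), P.Z.toB x = d := by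
  obtain ⟨Z, e, he⟩ := exists_model_equiv (A := R) (B := D') (Polynomial R) (Polynomial.aeval d)
  obtain ⟨Y, e', he'⟩ := exists_model_equiv (A := R) (B := D) (Polynomial R) (Polynomial.aeval (i d))
  obtain ⟨X, e'', he''⟩ := exists_model_equiv (A := R) (B := B) R (Algebra.ofId R B)
  refine ⟨⟨X, Y, Z, ⟨(Algebra.ofId R Y.Alg).comp e''.symm.toAlgHom, fun x => ?_⟩,
    ⟨e'.toAlgHom.comp e.symm.toAlgHom, fun x => ?_⟩⟩, e Polynomial.X, (he _).trans (Polynomial.aeval_X d)⟩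
  · obtain ⟨a, rfl⟩ := e''.surjective x
    show Y.toB (Algebra.ofId R Y.Alg (e''.symm (e'' a))) = f (X.toB (e'' a))
    rw [e''.symm_apply_apply, he'', Algebra.ofId_apply, Algebra.ofId_apply, AlgHom.commutes, AlgHom.commutes]
  · obtain ⟨p, rfl⟩ := e.surjective x
    show Y.toB (e' (e.symm (e p))) = i (Z.toB (e p))
    rw [e.symm_apply_apply, he, he', Polynomial.aeval_algHom_apply]

end

end Groth.Agent.PairModels
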